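import Groth.Agent.OmegaLib.DOmega
import Groth.Agent.CurvesLib24.Basic
import Groth.Agent.CurveRR24.DoubleCover.Sep
import Groth.Agent.AbCubeLib.FiniteDegree
import Mathlib.RingTheory.Unramified.Field

/-!
# Finite dominant morphisms of curves: flatness, degree, generic unramifiedness
-/

set_option autoImplicit false
set_option linter.style.haveILetI false
set_option linter.unusedSectionVars false
set_option backward.isDefEq.respectTransparency.types false
set_option maxHeartbeats 1000000

universe u

open CategoryTheory CategoryTheory.Limits AlgebraicGeometry Opposite TopologicalSpace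
open Groth.Agent.Coherent Groth.Agent.PicLib Groth.Agent.AmpleLib Groth.Agent.EulerLib Groth.Agent.CurveRR24

namespace Groth.Agent.Hurwitz24

variable {X Y : Scheme.{u}} [IsIntegral X] [IsIntegral Y] (f : X ⟶ Y)
  (e : f (genericPoint X) = genericPoint Y)

include e

theorem isDominant_of_generic : IsDominant f := by
  refine ⟨dense_iff_closure_eq.mpr (Set.eq_univ_of_univ_subset ?_)⟩
  rw [← genericPoint_closure Y, ← e]
  exact closure_mono (Set.singleton_subset_iff.mpr ⟨_, rfl⟩)

theorem flat_of_dominant [IsLocallyNoetherian Y] (h1 : topologicalKrullDim Y ≤ 1)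
    (hn : ∀ y : Y, IsIntegrallyClosed (Y.presheaf.stalk y)) : Flat f := by
  haveI := isDominant_of_generic f e
  refine (Flat.iff_flat_stalkMap f).2 fun x => ?_
  haveI := CurvesLib24.isPrincipalIdealRing_stalk h1 (f x) (hn (f x))
  let _ : Algebra (Y.presheaf.stalk (f x)) (X.presheaf.stalk x) := (f.stalkMap x).hom.toAlgebra
  haveI : Module.IsTorsionFree (Y.presheaf.stalk (f x)) (X.presheaf.stalk x) :=
    Module.isTorsionFree_iff_algebraMap_injective.2 (CurvesLib24.stalkMap_injective f x)
  exact RingHom.flat_algebraMap_iff.2 inferInstance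

/-- The rank of a finite flat morphism is the degree of the function field extension. -/
theorem residueDegree_eq_finrank [IsLocallyNoetherian Y] [IsFinite f] [Flat f] (y : Y) :
    f.residueDegree (genericPoint X) = Scheme.Hom.finrank f y := by
  haveI : IsLocallyNoetherian X := LocallyOfFiniteType.isLocallyNoetherian f
  have hE : Coh.IsCoh ((Coh.push f).obj (Coh.structureModule X)) :=
    isCoh_push_finite f (isCoh_structureModule _)
  obtain ⟨U, hUne, ⟨eU⟩⟩ := SDiv28.GenRank.exists_open_free _ hE.1 hE.2
  obtain ⟨p, hp⟩ := hUne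
  obtain ⟨W, hW, hpW, hWU⟩ := exists_isAffineOpen_mem_and_subset (x := p) (U := U) hp
  obtain ⟨b⟩ := Props12.exists_basis_sections eU hWU
  haveI : Nonempty W := ⟨⟨p, hpW⟩⟩
  have hηW : genericPoint Y ∈ W := ((genericPoint_spec Y).mem_open_set_iff W.2).2 ⟨p, trivial, hpW⟩
  let η := genericPoint X
  have hmem : η ∈ f ⁻¹ᵁ W := show f η ∈ W from e ▸ hηW
  let B := Γ(X, f ⁻¹ᵁ W)
  have hV : IsAffineOpen (f ⁻¹ᵁ W) := hW.preimage f
  have sq : IsPullback hV.fromSpec (Spec.map (f.app W)) f hW.fromSpec := by
    refine (IsOpenImmersion.isPullback _ _ _ _ ?_ ?_).flip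
    · rw [← IsAffineOpen.SpecMap_appLE_fromSpec f hW hV le_rfl, Scheme.Hom.app_eq_appLE]
    · rw [hW.opensRange_fromSpec, hV.opensRange_fromSpec]
  haveI : LocallyOfFinitePresentation f := CohBC.locallyOfFinitePresentation_of_isLocallyNoetherian f
  letI : Algebra Γ(Y, W) B := (f.app W).hom.toAlgebra
  haveI : Module.Finite Γ(Y, W) B := IsFinite.finite_app f W hW
  have hfl : Flat (Spec.map (f.app W)) := MorphismProperty.of_isPullback (P := @Flat) sq ‹Flat f›
  haveI : Module.Flat Γ(Y, W) B := (RingHom.flat_algebraMap_iff).1 (Flat.SpecMap_iff.1 hfl)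
  haveI : Module.Free Γ(Y, W) B := Module.Free.of_basis (b.map
    { toFun := fun x => x, invFun := fun x => x, map_add' := fun _ _ => rfl, map_smul' := fun _ _ => rfl })
  have h1 : Scheme.Hom.finrank f y = Module.finrank Γ(Y, W) B := by
    rw [f.isLocallyConstant_finrank.apply_eq_of_preconnectedSpace y (hW.fromSpec (hW.primeIdealOf ⟨p, hpW⟩)),
      ← Scheme.Hom.finrank_of_isPullback _ _ _ _ sq]
    refine (Scheme.Hom.finrank_SpecMap_algebraMap Γ(Y, W) B _).trans ?_
    rw [Module.rankAtStalk_eq_finrank_of_free]
    rfl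
  rw [h1]
  let κY := Y.residueField (f η)
  let κX := X.residueField η
  let _ : Algebra κY κX := (f.residueFieldMap η).hom.toAlgebra
  let _ : Algebra B κX := (X.evaluation (f ⁻¹ᵁ W) η hmem).hom.toAlgebra
  let _ : Algebra Γ(Y, W) κY := (Y.evaluation W (f η) hmem).hom.toAlgebra
  let _ : Algebra Γ(Y, W) κX := ((X.evaluation (f ⁻¹ᵁ W) η hmem).hom.comp (f.app W).hom).toAlgebra
  haveI : IsScalarTower Γ(Y, W) B κX := IsScalarTower.of_algebraMap_eq fun _ => rfl
  haveI : IsScalarTower Γ(Y, W) κY κX := IsScalarTower.of_algebraMap_eq fun r =>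
    (Scheme.evaluation_naturality_apply f η hmem r).symm
  haveI : IsFractionRing B κX := isFractionRing_evaluation hV hmem rfl
  haveI : IsFractionRing Γ(Y, W) κY := isFractionRing_evaluation hW hmem e
  haveI : Nonempty (f ⁻¹ᵁ W) := ⟨⟨η, hmem⟩⟩
  haveI : FaithfulSMul Γ(Y, W) B := by
    rw [faithfulSMul_iff_algebraMap_injective]
    refine Function.Injective.of_comp (f := algebraMap B κX) ?_
    rw [← RingHom.coe_comp, ← IsScalarTower.algebraMap_eq, IsScalarTower.algebraMap_eq Γ(Y, W) κY κX, RingHom.coe_comp]
    exact (algebraMap κY κX).injective.comp (IsFractionRing.injective Γ(Y, W) κY)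
  haveI : Algebra.IsAlgebraic Γ(Y, W) B := Algebra.IsAlgebraic.of_finite Γ(Y, W) B
  exact IsFractionRing.finrank_eq Γ(Y, W) κY B κX

/-- A separable extension of function fields: the relative differentials vanish generically. -/
theorem subsingleton_stalk_omega [QuasiSeparated f]
    (hsep : letI := ((Y.presheaf.stalkSpecializes (specializes_of_eq e) ≫ f.stalkMap (genericPoint X)).hom).toAlgebra
      Algebra.IsSeparable Y.functionField X.functionField) :
    Subsingleton ((Omega.sheaf f).presheaf.stalk (genericPoint X)) := by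
  let φ := (Y.presheaf.stalkSpecializes (specializes_of_eq e) ≫ f.stalkMap (genericPoint X)).hom
  obtain ⟨W, hW, hηW, -⟩ := exists_isAffineOpen_mem_and_subset (x := genericPoint Y) (U := (⊤ : Y.Opens)) trivial
  haveI : Nonempty W := ⟨⟨_, hηW⟩⟩
  have hmem : f (genericPoint X) ∈ W := e ▸ hηW
  let A := Γ(Y, W)
  let K := Y.functionField
  let L := X.presheaf.stalk (genericPoint X)
  let _ : Algebra K X.functionField := φ.toAlgebra
  let _ : Algebra A K := (Y.presheaf.germ W (genericPoint Y) hηW).hom.toAlgebra
  let _ : Algebra A X.functionField :=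
    ((f.stalkMap (genericPoint X)).hom.comp (Y.presheaf.germ W (f (genericPoint X)) hmem).hom).toAlgebra
  haveI : IsScalarTower A K X.functionField := IsScalarTower.of_algebraMap_eq fun r => by
    show (f.stalkMap (genericPoint X)).hom (Y.presheaf.germ W (f (genericPoint X)) hmem r) =
      (f.stalkMap (genericPoint X)).hom
        ((Y.presheaf.stalkSpecializes (specializes_of_eq e)).hom (Y.presheaf.germ W (genericPoint Y) hηW r))
    congr 1
    exact (TopCat.Presheaf.germ_stalkSpecializes_apply Y.presheaf hηW (specializes_of_eq e) r).symm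
  haveI : IsFractionRing A K := functionField_isFractionRing_of_isAffineOpen Y W hW
  haveI : Algebra.FormallyUnramified A K := Algebra.FormallyUnramified.of_isLocalization (nonZeroDivisors A)
  haveI : Algebra.IsSeparable K X.functionField := hsep
  haveI : Algebra.FormallyUnramified K X.functionField := Algebra.FormallyUnramified.of_isSeparable K _
  haveI : Algebra.FormallyUnramified A X.functionField := Algebra.FormallyUnramified.comp A K _
  haveI : Subsingleton (Ω[X.functionField⁄A]) := Algebra.FormallyUnramified.subsingleton_kaehlerDifferential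
  obtain ⟨E, -⟩ := OmegaLib.exists_omega_stalk_equiv f hW (genericPoint X) hmem fun _ => rfl
  haveI hs : Subsingleton ((DerSch.stalkFunctor X (genericPoint X)).obj (Omega.sheaf f)) :=
    E.symm.toEquiv.subsingleton
  exact hs

end Groth.Agent.Hurwitz24
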