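import Groth.Agent.Hurwitz24.Sequence
import Groth.Agent.Hurwitz24.Generic
import Groth.Agent.OmegaDual24.Main
import Groth.Agent.SplitP1.Split
import Groth.Agent.CurveRR24.DegPull
import Groth.Agent.Coherent.CohOps

/-!
# The Riemann–Hurwitz formula
-/

set_option autoImplicit false
set_option linter.style.haveILetI false
set_option linter.unusedSectionVars false
set_option backward.isDefEq.respectTransparency.types false
set_option maxHeartbeats 1000000

universe u

open CategoryTheory CategoryTheory.Limits AlgebraicGeometry Opposite TopologicalSpace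
open Groth.Agent.Coherent Groth.Agent.PicLib Groth.Agent.EulerLib Groth.Agent.CurveRR24

namespace Groth.Agent.Hurwitz24

variable (k : Type u) [Field k] {X Y : Scheme.{u}}
  [X.Over (Spec (CommRingCat.of k))] [IsProper (X ↘ Spec (CommRingCat.of k))] [IsIntegral X]
  [Smooth (X ↘ Spec (CommRingCat.of k))] [GeometricallyIntegral (X ↘ Spec (CommRingCat.of k))]
  [Y.Over (Spec (CommRingCat.of k))] [IsProper (Y ↘ Spec (CommRingCat.of k))] [IsIntegral Y]
  [Smooth (Y ↘ Spec (CommRingCat.of k))] [GeometricallyIntegral (Y ↘ Spec (CommRingCat.of k))]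

/-- `2g(X) - 2 = n(2g(Y) - 2) + h⁰(Ω_{X/Y})` for a separable finite morphism of smooth curves. -/
theorem hurwitz (hX : topologicalKrullDim X = 1) (hY : topologicalKrullDim Y = 1) (f : X ⟶ Y) [IsFinite f]
    (hf : f ≫ (Y ↘ Spec (CommRingCat.of k)) = X ↘ Spec (CommRingCat.of k))
    (e : f (genericPoint X) = genericPoint Y)
    (hsep : letI := ((Y.presheaf.stalkSpecializes (specializes_of_eq e) ≫ f.stalkMap (genericPoint X)).hom).toAlgebra
      Algebra.IsSeparable Y.functionField X.functionField) :
    2 * (Curv2.genus k X : ℤ) - 2 =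
      (f.residueDegree (genericPoint X) : ℤ) * (2 * (Curv2.genus k Y : ℤ) - 2) +
        (Module.finrank k (Coh.HH X (Omega.sheaf f) 0) : ℤ) := by
  haveI := EulerLib.isNoetherian_of_proper k (X := X)
  haveI := EulerLib.isNoetherian_of_proper k (X := Y)
  haveI : X.IsSeparated := EulerLib.isSeparated_of_proper k
  haveI : Flat f := flat_of_dominant f e hY.le fun y => by
    haveI := Groth.Agent.VarietyLib.isRegularLocalRing_stalk_of_smooth k Y (Y ↘ Spec (CommRingCat.of k)) y
    exact Groth.Agent.CAlgH3.isIntegrallyClosed_of_regular _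
  let q := Y ↘ Spec (CommRingCat.of k)
  let p := X ↘ Spec (CommRingCat.of k)
  let η := genericPoint X
  obtain ⟨c, -, ⟨eQ⟩⟩ := exists_omega_sequence (f := f) (p := p) (q := q) hf
  have hΩX : PicF.IsInvertible (Omega.sheaf p) := OmegaDual24.isInvertible_omega (k := k) hX
  have hΩY : PicF.IsInvertible (Omega.sheaf q) := OmegaDual24.isInvertible_omega (k := k) hY
  have hP := PicLoc.isInvertible_pullback f hΩY
  have hXc : Coh.IsCoh (Omega.sheaf p) := CurveRR24.isCoh_of_isInvertible k hΩX
  have hPc : Coh.IsCoh ((Scheme.Modules.pullback f).obj (Omega.sheaf q)) := CurveRR24.isCoh_of_isInvertible k hP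
  have hbasis := fun x : X => SplitP1.nonempty_basis_stalk (PicLib.isFinLocFreeOfRank_one hΩX) x
  have hz : Subsingleton ((cokernel c).presheaf.stalk η) := by
    haveI : Subsingleton ((DerSch.stalkFunctor X η).obj (Omega.sheaf f)) := subsingleton_stalk_omega f e hsep
    exact (((DerSch.stalkFunctor X η).mapIso eQ).toLinearEquiv.toEquiv.subsingleton :
      Subsingleton ((DerSch.stalkFunctor X η).obj (cokernel c)))
  have hc0 : c ≠ 0 := fun h0 => by
    haveI : Subsingleton ((DerSch.stalkFunctor X η).obj (cokernel c)) := hz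
    have e1 : cokernel c ≅ Omega.sheaf p := cokernelIsoOfEq h0 ≪≫ cokernelZeroIsoTarget
    haveI : Subsingleton ((DerSch.stalkFunctor X η).obj (Omega.sheaf p)) :=
      ((DerSch.stalkFunctor X η).mapIso e1).symm.toLinearEquiv.toEquiv.subsingleton
    haveI : Subsingleton ((Omega.sheaf p).presheaf.stalk η) :=
      (inferInstance : Subsingleton ((DerSch.stalkFunctor X η).obj (Omega.sheaf p)))
    obtain ⟨b⟩ := hbasis η
    exact b.ne_zero 0 (Subsingleton.elim _ _)
  haveI : Mono c := SplitP1.mono_of_ne_zero' hXc (fun x => (hbasis x).elim fun b => Module.Free.of_basis b) hP c hc0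
  let S : ShortComplex X.Modules := ShortComplex.mk c (cokernel.π c) (cokernel.condition c)
  have hS : S.ShortExact := { exact := ShortComplex.exact_of_g_is_cokernel _ (cokernelIsCokernel _) }
  have hQ : Coh.IsCoh (cokernel c) := isCoh_cokernel c hPc.1 hXc
  have hT : IsClosed (CohB1.support (cokernel c)) := isClosed_support _ (locallyFinGen_of_isFT _ hQ.2)
  have hηT : η ∉ CohB1.support (cokernel c) := fun h => h hz
  have hdimT : topologicalKrullDim (CohB1.support (cokernel c)) < (1 : ℕ) := by
    refine dim_lt_of_notMem hT (Set.subset_univ _) isClosed_univ (genericPoint_spec X) hηT ?_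
    exact (Topology.IsInducing.subtypeVal.topologicalKrullDim_le).trans (by exact_mod_cast hX.le)
  have hvan : ∀ i, 0 < i → Subsingleton (Coh.HH X (cokernel c) i) := fun i hi =>
    subsingleton_HH_of_support (X := X) ⟨_, hT⟩ _ hQ.1 subset_rfl i (lt_of_lt_of_le hdimT (by exact_mod_cast hi))
  have hadd := euler_additive k X S hS hPc hXc hQ
  have hQe : Curv2.euler k X (cokernel c) = (Module.finrank k (Coh.HH X (Omega.sheaf f) 0) : ℤ) := by
    rw [euler_eq_sum k X (cokernel c) 0 (fun i hi => hvan i hi), ← CurveRR24.finrank_HH_congr k eQ 0]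
    simp
  have h1 : Curv2.deg k X ((Scheme.Modules.pullback f).obj (Omega.sheaf q)) 1 =
      (f.residueDegree η : ℤ) * Curv2.deg k Y (Omega.sheaf q) 1 := by
    rw [CurveRR24.deg_pullback k f hf hY.le hΩY (genericPoint Y), residueDegree_eq_finrank f e (genericPoint Y)]
  have h2 : Curv2.deg k X (Omega.sheaf p) 1 = 2 * (Curv2.genus k X : ℤ) - 2 := OmegaDual24.deg_omega k hX
  have h3 : Curv2.deg k Y (Omega.sheaf q) 1 = 2 * (Curv2.genus k Y : ℤ) - 2 := OmegaDual24.deg_omega k hY
  rw [h3] at h1
  simp only [Curv2.deg, Nat.cast_one, one_mul] at h1 h2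
  change Curv2.euler k X (Omega.sheaf p) = Curv2.euler k X ((Scheme.Modules.pullback f).obj (Omega.sheaf q)) + _ at hadd
  rw [hQe] at hadd
  show 2 * (Curv2.genus k X : ℤ) - 2 = _
  linarith

end Groth.Agent.Hurwitz24
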