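import Groth.Agent.OmegaLib.DOmega
import Groth.Agent.Omega15.Compat

/-!
# The sequence of differentials `f^*Ω_{Y/S} → Ω_{X/S} → Ω_{X/Y} → 0`
-/

set_option autoImplicit false
set_option linter.style.haveILetI false
set_option backward.isDefEq.respectTransparency.types false
set_option backward.isDefEq.respectTransparency false

universe u

open CategoryTheory CategoryTheory.Limits AlgebraicGeometry Opposite TopologicalSpace

namespace Groth.Agent.Hurwitz24

variable {X Y S : Scheme.{u}} {f : X ⟶ Y} {p : X ⟶ S} {q : Y ⟶ S}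

/-- A derivation over `Y` is one over `S`. -/
def restrictDer (hf : f ≫ q = p) {M : X.Modules} (g : OmegaSh.Der f M) : OmegaSh.Der p M where
  d := fun {U} => (g.app U.unop)
  d_mul := fun {U} a b => g.d_mul a b
  d_map := fun {U V} i s => g.d_map i s
  d_app := fun {V} c => by
    show g.app (p ⁻¹ᵁ V.unop) (p.app V.unop c) = 0
    subst hf
    rw [Scheme.Hom.comp_app, CommRingCat.comp_apply]
    exact OmegaLib.app_app g (q ⁻¹ᵁ V.unop) _

theorem restrictDer_app (hf : f ≫ q = p) {M : X.Modules} (g : OmegaSh.Der f M) (U : X.Opens) (s : Γ(X, U)) :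
    (restrictDer hf g).app U s = g.app U s := rfl

/-- The cokernel of a compatible map of differentials is universal over the middle scheme. -/
theorem exists_universal_cokernel (hf : f ≫ q = p) {ΩY : Y.Modules} {dY : OmegaSh.Der q ΩY}
    (hdY : OmegaSh.IsUniversal dY) {ΩX : X.Modules} {dX : OmegaSh.Der p ΩX} (hdX : OmegaSh.IsUniversal dX)
    {c : (Scheme.Modules.pullback f).obj ΩY ⟶ ΩX} (hc : OmegaSh.IsDiffCompat f dY dX c) :
    ∃ d : OmegaSh.Der f (cokernel c), OmegaSh.IsUniversal d := by
  have hsq : p ≫ 𝟙 S = f ≫ q := by rw [Category.comp_id, hf]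
  let π := cokernel.π c
  let d : OmegaSh.Der f (cokernel c) :=
    { d := fun {U} => (π.app U.unop).hom.comp (dX.app U.unop)
      d_mul := fun {U} a b => by
        show π.app U.unop (dX.app U.unop (a * b)) = _
        rw [OmegaLib.app_mul, map_add, Scheme.Modules.Hom.app_smul, Scheme.Modules.Hom.app_smul]
        rfl
      d_map := fun {U V} i s => by
        show π.app V.unop (dX.app V.unop (X.presheaf.map i s)) = _
        have e : i = (homOfLE i.unop.le).op := rfl
        rw [e, OmegaLib.app_map dX i.unop.le s]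
        exact congr($(π.mapPresheaf.naturality (homOfLE i.unop.le).op) (dX.app U.unop s))
      d_app := fun {V} s => by
        show π.app (f ⁻¹ᵁ V.unop) (dX.app (f ⁻¹ᵁ V.unop) (f.app V.unop s)) = 0
        rw [← hc V.unop s]
        exact congrArg (fun φ : (Scheme.Modules.pullback f).obj ΩY ⟶ cokernel c =>
          φ.app (f ⁻¹ᵁ V.unop) (OmegaSh.pullSect f ΩY V.unop (dY.app V.unop s))) (cokernel.condition c) }
  refine ⟨d, fun M g => ?_⟩
  let g' := restrictDer hf g
  obtain ⟨α, hα, huniq⟩ := hdX M g'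
  have hαapp : ∀ (U : X.Opens) (s : Γ(X, U)), α.app U (dX.app U s) = g.app U s := fun U s =>
    PresheafOfModules.Derivation.congr_d hα s
  have h0 : c ≫ α = 0 := by
    obtain ⟨c₀, -, hu⟩ := Omega15.existsUnique_compat f (𝟙 S) hsq hdY g'
    refine (hu _ ?_).trans (hu _ ?_).symm
    · intro U s
      show α.app _ (c.app _ (OmegaSh.pullSect f ΩY U (dY.app U s))) = _
      rw [hc U s]
      exact PresheafOfModules.Derivation.congr_d hα (f.app U s)
    · intro U s
      show (0 : _) = g.app _ (f.app U s)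
      exact (OmegaLib.app_app g U s).symm
  refine ⟨cokernel.desc c α h0, OmegaLib.der_ext fun U s => ?_, fun β hβ => ?_⟩
  · show (cokernel.desc c α h0).app U (π.app U (dX.app U s)) = g.app U s
    exact (congrArg (fun φ : ΩX ⟶ M => φ.app U (dX.app U s)) (cokernel.π_desc c α h0)).trans (hαapp U s)
  · rw [← cancel_epi π, cokernel.π_desc]
    refine huniq _ (OmegaLib.der_ext fun U s => ?_)
    exact PresheafOfModules.Derivation.congr_d hβ s

/-- Two universal derivations have isomorphic targets. -/
theorem nonempty_iso_of_isUniversal {M N : X.Modules} {d : OmegaSh.Der f M} {d' : OmegaSh.Der f N}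
    (hd : OmegaSh.IsUniversal d) (hd' : OmegaSh.IsUniversal d') : Nonempty (M ≅ N) := by
  obtain ⟨α, hα, -⟩ := hd N d'
  obtain ⟨β, hβ, -⟩ := hd' M d
  refine ⟨⟨α, β, ?_, ?_⟩⟩
  · obtain ⟨γ, -, hγ⟩ := hd M d
    refine (hγ _ (OmegaLib.der_ext fun U s => ?_)).trans (hγ (𝟙 M) (OmegaLib.der_ext fun U s => rfl)).symm
    show β.app U (α.app U (d.app U s)) = d.app U s
    exact (congrArg (β.app U) (PresheafOfModules.Derivation.congr_d hα s)).trans
      (PresheafOfModules.Derivation.congr_d hβ s)
  · obtain ⟨γ, -, hγ⟩ := hd' N d'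
    refine (hγ _ (OmegaLib.der_ext fun U s => ?_)).trans (hγ (𝟙 N) (OmegaLib.der_ext fun U s => rfl)).symm
    show α.app U (β.app U (d'.app U s)) = d'.app U s
    exact (congrArg (α.app U) (PresheafOfModules.Derivation.congr_d hβ s)).trans
      (PresheafOfModules.Derivation.congr_d hα s)

/-- The cotangent sequence: a compatible map with cokernel the relative differentials. -/
theorem exists_omega_sequence (hf : f ≫ q = p) [QuasiSeparated f] [QuasiSeparated p] [QuasiSeparated q] :
    ∃ c : (Scheme.Modules.pullback f).obj (Omega.sheaf q) ⟶ Omega.sheaf p,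
      OmegaSh.IsDiffCompat f (OmegaSh.dOmega q) (OmegaSh.dOmega p) c ∧
      Nonempty (cokernel c ≅ Omega.sheaf f) := by
  obtain ⟨c, hc, -⟩ := Omega15.existsUnique_compat f (𝟙 S) (show p ≫ 𝟙 S = f ≫ q by rw [Category.comp_id, hf])
    (OmegaLib.isUniversal_dOmega q) (OmegaSh.dOmega p)
  obtain ⟨d, hd⟩ := exists_universal_cokernel hf (OmegaLib.isUniversal_dOmega q) (OmegaLib.isUniversal_dOmega p) hc
  exact ⟨c, hc, nonempty_iso_of_isUniversal hd (OmegaLib.isUniversal_dOmega f)⟩

end Groth.Agent.Hurwitz24
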